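import Mathlib
import Cfsg.Agent.Fischer480.Defs
import Cfsg.Agent.LieClassical.HermCount
import Cfsg.Agent.ClassicalGeometry.HermOrtho
import Cfsg.Agent.ClassicalGeometry.HermLines
import Cfsg.Agent.TSp.Basic
set_option linter.all false

set_option autoImplicit false

/-!
# Numbers for the sets of type `U(n)` : isotropic points of a Hermitian space over `F_4`
-/

namespace Cfsg.Agent.TSp.UCount

open Cfsg Cfsg.Agent.Fischer480.Defs Cfsg.Agent.LieClassical.HermBasic
open Cfsg.Agent.ClassicalGeometry.HermOrtho Cfsg.Agent.ClassicalGeometry.HermLines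

/-- the data of `IsU` -/
structure UF {G : Type*} [Group G] (F : Type) [Field F] [Fintype F] (n : ℕ) (E : Set G)
    (f : G → Fin n → F) : Prop where
  card : Fintype.card F = 4
  ne : ∀ x ∈ E, f x ≠ 0
  iso : ∀ x ∈ E, hermForm n F 2 (f x) (f x) = 0
  comm : ∀ x ∈ E, ∀ y ∈ E, (Commute x y ↔ hermForm n F 2 (f x) (f y) = 0)
  inj : ∀ x ∈ E, ∀ y ∈ E, ∀ c : F, f x = c • f y → x = y
  surj : ∀ v : Fin n → F, v ≠ 0 → hermForm n F 2 v v = 0 → ∃ x ∈ E, ∃ c : F, v = c • f x

theorem exists_uf {G : Type*} [Group G] {n : ℕ} {E : Set G} (h : IsU n E) :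
    ∃ (F : Type) (_ : Field F) (_ : Fintype F) (f : G → Fin n → F), UF F n E f := by
  obtain ⟨F, i1, i2, f, h1, h2, h3, h4, h5, h6⟩ := h
  exact ⟨F, i1, i2, f, ⟨h1, h2, h3, h4, h5, h6⟩⟩

section Count

variable {G : Type*} [Group G] {F : Type} [Field F] [Fintype F] {n : ℕ} {E : Set G}
  {f : G → Fin n → F}

theorem UF.card' (U : UF F n E f) : Fintype.card F = 2 ^ 2 := by rw [U.card]; norm_num

/-- counting the members of `E` by counting vectors -/
theorem UF.three_mul (U : UF F n E f) (P : (Fin n → F) → Prop)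
    (hP : ∀ (v : Fin n → F) (c : F), c ≠ 0 → (P (c • v) ↔ P v)) :
    3 * {x | x ∈ E ∧ P (f x)}.ncard =
      Nat.card {v : Fin n → F // (v ≠ 0 ∧ hermForm n F 2 v v = 0) ∧ P v} := by
  classical
  have h3 : Nat.card Fˣ = 3 := by
    rw [Nat.card_eq_fintype_card, Fintype.card_units, U.card]
  have hb : Function.Bijective (fun q : Fˣ × {x // x ∈ {x | x ∈ E ∧ P (f x)}} =>
      (⟨(q.1 : F) • f q.2.1, by
        obtain ⟨c, x, hx⟩ := q
        refine ⟨⟨smul_ne_zero c.ne_zero (U.ne x hx.1), ?_⟩, ?_⟩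
        · rw [herm_smul_left, herm_smul_right, U.iso x hx.1, mul_zero, mul_zero]
        · exact (hP _ _ c.ne_zero).2 hx.2⟩ :
        {v : Fin n → F // (v ≠ 0 ∧ hermForm n F 2 v v = 0) ∧ P v})) := by
    constructor
    · rintro ⟨c, x, hx⟩ ⟨d, y, hy⟩ h
      have h1 : (c : F) • f x = (d : F) • f y := congrArg Subtype.val h
      have h2 : f x = ((c : F)⁻¹ * d) • f y := by
        rw [mul_smul, ← h1, smul_smul, inv_mul_cancel₀ c.ne_zero, one_smul]
      have hxy : x = y := U.inj x hx.1 y hy.1 _ h2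
      subst hxy
      have h4 : (c : F) = d := by
        have h5 : ((c : F) - d) • f x = 0 := by rw [sub_smul, h1, sub_self]
        rcases smul_eq_zero.1 h5 with h6 | h6
        · exact sub_eq_zero.1 h6
        · exact absurd h6 (U.ne x hx.1)
      rw [Prod.mk.injEq]
      exact ⟨Units.ext h4, rfl⟩
    · rintro ⟨v, ⟨hv0, hv⟩, hPv⟩
      obtain ⟨x, hx, c, rfl⟩ := U.surj v hv0 hv
      have hc : c ≠ 0 := by
        rintro rfl
        exact hv0 (zero_smul _ _)
      exact ⟨⟨Units.mk0 c hc, x, hx, (hP _ _ hc).1 hPv⟩, rfl⟩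
  rw [← Nat.card_congr (Equiv.ofBijective _ hb), Nat.card_prod, h3]
  rfl

theorem card_ne_zero_add (P : (Fin n → F) → Prop) (h0 : P 0) :
    Nat.card {v : Fin n → F // v ≠ 0 ∧ P v} + 1 = Nat.card {v : Fin n → F // P v} := by
  classical
  have h1 : Nat.card {v : Fin n → F // v ≠ 0 ∧ P v} =
      ((Finset.univ.filter P).erase 0).card := by
    rw [Nat.card_eq_fintype_card, Fintype.card_subtype]
    congr 1
    ext v
    simp
  have h2 : Nat.card {v : Fin n → F // P v} = (Finset.univ.filter P).card := by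
    rw [Nat.card_eq_fintype_card, Fintype.card_subtype]
  rw [h1, h2, Finset.card_erase_of_mem (by simp [h0])]
  have : 0 < (Finset.univ.filter P).card := Finset.card_pos.2 ⟨0, by simp [h0]⟩
  omega

/-- the number of members of `E` -/
theorem UF.card_E (U : UF F n E f) :
    3 * E.ncard + 1 = Nat.card {v : Fin n → F // hermForm n F 2 v v = 0} := by
  have h1 := U.three_mul (fun _ => True) (fun _ _ _ => Iff.rfl)
  have h2 := card_ne_zero_add (F := F) (fun v : Fin n → F => hermForm n F 2 v v = 0)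
    (herm_zero_left 0)
  have h3 : {x | x ∈ E ∧ True} = E := by ext; simp
  have h4 : Nat.card {v : Fin n → F // (v ≠ 0 ∧ hermForm n F 2 v v = 0) ∧ True} =
      Nat.card {v : Fin n → F // v ≠ 0 ∧ hermForm n F 2 v v = 0} := by
    apply Nat.card_congr
    exact Equiv.subtypeEquivRight (fun v => ⟨fun h => h.1, fun h => ⟨h, trivial⟩⟩)
  rw [h3, h4] at h1
  rw [h1, h2]

/-- the valency -/
theorem UF.card_Loc (U : UF F n E f) {x : G} (hx : x ∈ E) :
    3 * (Loc E x).ncard + 4 =
      Nat.card {v : Fin n → F // hermForm n F 2 v v = 0 ∧ hermForm n F 2 v (f x) = 0} := by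
  have hF := U.card'
  have h1 := U.three_mul (fun v => hermForm n F 2 v (f x) = 0 ∧ ∀ a : F, a • f x ≠ v) (by
    intro v c hc
    rw [herm_smul_left, mul_eq_zero]
    constructor
    · rintro ⟨h1, h2⟩
      refine ⟨h1.resolve_left hc, fun a ha => h2 (c * a) ?_⟩
      rw [← ha, smul_smul]
    · rintro ⟨h1, h2⟩
      refine ⟨Or.inr h1, fun a ha => h2 (c⁻¹ * a) ?_⟩
      rw [mul_smul, ha, smul_smul, inv_mul_cancel₀ hc, one_smul])
  have h2 : {y | y ∈ E ∧ (hermForm n F 2 (f y) (f x) = 0 ∧ ∀ a : F, a • f x ≠ f y)} =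
      Loc E x := by
    ext y
    constructor
    · rintro ⟨hy, h3, h4⟩
      refine ⟨hy, ?_, ?_⟩
      · rintro rfl
        exact h4 1 (one_smul _ _)
      · exact ((U.comm y hy x hx).2 h3).symm
    · rintro ⟨hy, h3, h4⟩
      refine ⟨hy, (U.comm y hy x hx).1 h4.symm, ?_⟩
      intro a ha
      exact h3 (U.inj y hy x hx a ha.symm)
  rw [h2] at h1
  rw [h1, ← card_fibre hF (U.ne x hx) (U.iso x hx)]
  congr 1
  apply Nat.card_congr
  refine Equiv.subtypeEquivRight (fun v => ?_)
  constructor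
  · rintro ⟨⟨h3, h4⟩, h5, h6⟩
    exact ⟨⟨h4, h5⟩, h6⟩
  · rintro ⟨⟨h4, h5⟩, h6⟩
    refine ⟨⟨?_, h4⟩, h5, h6⟩
    rintro rfl
    exact h6 0 (zero_smul _ _)

/-- two non orthogonal isotropic vectors span a non degenerate space -/
theorem span_pair_nondeg (hF : Fintype.card F = 2 ^ 2) {u v : Fin n → F}
    (hu : hermForm n F 2 u u = 0) (hv : hermForm n F 2 v v = 0) (huv : hermForm n F 2 u v ≠ 0) :
    ∀ w ∈ Submodule.span F {u, v}, (∀ z ∈ Submodule.span F {u, v}, hermForm n F 2 w z = 0) →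
      w = 0 := by
  intro w hw h
  obtain ⟨a, b, rfl⟩ := Submodule.mem_span_pair.1 hw
  have h1 := h u (Submodule.subset_span (by simp))
  have h2 := h v (Submodule.subset_span (by simp))
  have huv' : hermForm n F 2 v u ≠ 0 := fun h3 => huv (herm_eq_zero_swap hF h3)
  rw [herm_add_left, herm_smul_left, herm_smul_left, hu, mul_zero, zero_add, mul_eq_zero] at h1
  rw [herm_add_left, herm_smul_left, herm_smul_left, hv, mul_zero, add_zero, mul_eq_zero] at h2
  rw [h1.resolve_right huv', h2.resolve_right huv]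
  simp

theorem finrank_span_pair (hF : Fintype.card F = 2 ^ 2) {u v : Fin n → F}
    (hu : hermForm n F 2 u u = 0) (hv : hermForm n F 2 v v = 0) (huv : hermForm n F 2 u v ≠ 0) :
    Module.finrank F (Submodule.span F ({u, v} : Set (Fin n → F))) = 2 := by
  have huv' : hermForm n F 2 v u ≠ 0 := fun h3 => huv (herm_eq_zero_swap hF h3)
  have hli : LinearIndependent F ![u, v] := by
    rw [LinearIndependent.pair_iff]
    intro a b hab
    have h1 : hermForm n F 2 (a • u + b • v) u = 0 := by rw [hab, herm_zero_left]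
    have h2 : hermForm n F 2 (a • u + b • v) v = 0 := by rw [hab, herm_zero_left]
    rw [herm_add_left, herm_smul_left, herm_smul_left, hu, mul_zero, zero_add, mul_eq_zero] at h1
    rw [herm_add_left, herm_smul_left, herm_smul_left, hv, mul_zero, add_zero, mul_eq_zero] at h2
    exact ⟨h2.resolve_right huv, h1.resolve_right huv'⟩
  have h3 := finrank_span_eq_card hli
  rw [Matrix.range_cons, Matrix.range_cons, Matrix.range_empty, Set.union_empty,
    Set.singleton_union] at h3
  rw [h3]; rfl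

theorem mem_hermPerp_pair {u v w : Fin n → F} (hF : Fintype.card F = 2 ^ 2) :
    w ∈ hermPerp 2 ((Submodule.span F ({u, v} : Set (Fin n → F)) : Set (Fin n → F))) ↔
      hermForm n F 2 w u = 0 ∧ hermForm n F 2 w v = 0 := by
  rw [mem_hermPerp]
  constructor
  · intro h
    exact ⟨h u (Submodule.subset_span (by simp)), h v (Submodule.subset_span (by simp))⟩
  · rintro ⟨h1, h2⟩ z hz
    obtain ⟨a, b, rfl⟩ := Submodule.mem_span_pair.1 hz
    rw [herm_add_right hF, herm_smul_right, herm_smul_right, h1, h2, mul_zero, mul_zero, add_zero]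

/-- the isotropic vectors of a non degenerate subspace -/
theorem card_isotropic_sub (hF : Fintype.card F = 2 ^ 2) (W : Submodule F (Fin n → F))
    (hW : ∀ u ∈ W, (∀ v ∈ W, hermForm n F 2 u v = 0) → u = 0) {k : ℕ}
    (hk : Module.finrank F W = k) :
    Nat.card {v : Fin n → F // hermForm n F 2 v v = 0 ∧ v ∈ W} =
      Nat.card {v : Fin k → F // hermForm k F 2 v v = 0} := by
  obtain ⟨b, hbW, hb⟩ := exists_orthonormal hF W hW hk
  have hkc : Module.finrank F W = Fintype.card (Fin k) := by simp [hk]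
  have hself : ∀ c : Fin k → F, hermForm n F 2 (∑ i, c i • b i) (∑ i, c i • b i) =
      hermForm k F 2 c c := by
    intro c
    rw [herm_sum_left, herm_def]
    refine Finset.sum_congr rfl fun i _ => ?_
    rw [herm_sum_right hF, Finset.sum_eq_single i]
    · rw [herm_smul_left, herm_smul_right, hb, if_pos rfl, mul_one]
    · intro j _ hj
      rw [herm_smul_left, herm_smul_right, hb, if_neg hj.symm, mul_zero, mul_zero]
    · intro hi
      exact absurd (Finset.mem_univ i) hi
  symm
  apply Nat.card_congr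
  refine Equiv.ofBijective (fun c => ⟨∑ i, c.1 i • b i, by rw [hself]; exact c.2,
    W.sum_mem fun i _ => W.smul_mem _ (hbW i)⟩) ⟨?_, ?_⟩
  · rintro ⟨c, hc⟩ ⟨d, hd⟩ h
    have h1 : ∑ i, c i • b i = ∑ i, d i • b i := congrArg Subtype.val h
    apply Subtype.ext
    funext i
    show c i = d i
    rw [← herm_sum_smul_left hb c i, h1, herm_sum_smul_left hb d i]
  · rintro ⟨v, hv, hvW⟩
    have h1 := eq_sum_of_orthonormal W hkc hbW hb hvW
    refine ⟨⟨fun i => hermForm n F 2 v (b i), ?_⟩, ?_⟩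
    · rw [← hself, ← h1]; exact hv
    · apply Subtype.ext
      exact h1.symm

/-- the number of common neighbours of two non commuting members -/
theorem UF.card_Com (U : UF F n E f) {k : ℕ} (hk : k + 2 = n) {x a : G} (hx : x ∈ E) (ha : a ∈ E)
    (hxa : ¬ Commute x a) : 3 * (Com E x a).ncard + 1 =
      Nat.card {v : Fin k → F // hermForm k F 2 v v = 0} := by
  have hF := U.card'
  have hu := U.iso x hx
  have hv := U.iso a ha
  have huv : hermForm n F 2 (f x) (f a) ≠ 0 := fun h => hxa ((U.comm x hx a ha).2 h)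
  have h1 := U.three_mul (fun v => hermForm n F 2 v (f x) = 0 ∧ hermForm n F 2 v (f a) = 0) (by
    intro v c hc
    rw [herm_smul_left, herm_smul_left, mul_eq_zero, mul_eq_zero]
    constructor
    · rintro ⟨h1, h2⟩
      exact ⟨h1.resolve_left hc, h2.resolve_left hc⟩
    · rintro ⟨h1, h2⟩
      exact ⟨Or.inr h1, Or.inr h2⟩)
  have h2 : {y | y ∈ E ∧ (hermForm n F 2 (f y) (f x) = 0 ∧ hermForm n F 2 (f y) (f a) = 0)} =
      Com E x a := by
    ext y
    constructor
    · rintro ⟨hy, h3, h4⟩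
      exact ⟨hy, ((U.comm y hy x hx).2 h3).symm, ((U.comm y hy a ha).2 h4).symm⟩
    · rintro ⟨hy, h3, h4⟩
      exact ⟨hy, (U.comm y hy x hx).1 h3.symm, (U.comm y hy a ha).1 h4.symm⟩
  rw [h2] at h1
  set W : Submodule F (Fin n → F) :=
    hermPerp 2 ((Submodule.span F ({f x, f a} : Set (Fin n → F)) : Set (Fin n → F))) with hWdef
  have hnd := span_pair_nondeg hF hu hv huv
  have hW := hermPerp_nondeg hF _ hnd
  have hrk : Module.finrank F W = k := by
    have h3 := finrank_hermPerp_of_nondeg hF _ hnd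
    rw [finrank_span_pair hF hu hv huv] at h3
    change 2 + Module.finrank F W = n at h3
    omega
  rw [← card_isotropic_sub hF W hW hrk]
  have h5 := card_ne_zero_add (F := F) (fun v : Fin n → F => hermForm n F 2 v v = 0 ∧ v ∈ W)
    ⟨herm_zero_left 0, W.zero_mem⟩
  rw [← h5, h1]
  congr 1
  apply Nat.card_congr
  refine Equiv.subtypeEquivRight (fun v => ?_)
  rw [hWdef, mem_hermPerp_pair hF, and_assoc]

/-- the numbers of type `U(6)` -/
theorem numbers_six (h : IsU 6 E) : E.ncard = 693 ∧ (∀ x ∈ E, (Loc E x).ncard = 180) ∧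
    ∀ x ∈ E, ∀ a ∈ E, ¬ Commute x a → (Com E x a).ncard = 45 := by
  obtain ⟨F, _, _, f, U⟩ := exists_uf h
  have hF := U.card'
  have c6 := Cfsg.Agent.LieClassical.HermCount.card_isotropic hF 6
  have c4 := Cfsg.Agent.LieClassical.HermCount.card_isotropic hF 4
  rw [if_pos (by decide)] at c6 c4
  norm_num at c6 c4
  refine ⟨?_, ?_, ?_⟩
  · have := U.card_E
    omega
  · intro x hx
    have h1 := U.card_Loc hx
    have h2 := card_isotropic_perp hF (U.ne x hx) (U.iso x hx)
    rw [c6] at h2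
    norm_num at h2
    omega
  · intro x hx a ha hxa
    have h1 := U.card_Com (k := 4) rfl hx ha hxa
    omega

end Count

end Cfsg.Agent.TSp.UCount
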